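import Groth.Agent.S7657
import Groth.Agent.VarietyLib.NormRedLocal
import Groth.Prelude.Def_Brnch
import Mathlib

/-!
# Geometric branches as homomorphisms from the integral closure
-/

set_option autoImplicit false
set_option linter.style.haveILetI false

universe u

open IsLocalRing

namespace Groth.Agent.NodeDelta9

variable (A : Type u) [CommRing A] [IsLocalRing A]

/-- Ring maps from the integral closure extending the canonical map to the algebraic closure of the residue field. -/
def GeomPt : Type u :=
  {f : ↥(integralClosure A (FractionRing A)) →+* AlgebraicClosure (ResidueField A) //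
    f.comp (algebraMap A ↥(integralClosure A (FractionRing A))) = Brnch.toClosure A}

theorem toClosure_eq_zero_iff (a : A) : Brnch.toClosure A a = 0 ↔ a ∈ maximalIdeal A := by
  rw [Brnch.toClosure, RingHom.comp_apply, map_eq_zero, residue_eq_zero_iff]

variable {A}

theorem GeomPt.map_base (f : GeomPt A) (a : A) :
    f.1 (algebraMap A ↥(integralClosure A (FractionRing A)) a) = Brnch.toClosure A a :=
  RingHom.congr_fun f.2 a

theorem GeomPt.isMaximal_ker (f : GeomPt A) : (RingHom.ker f.1).IsMaximal := by
  haveI : Algebra.IsIntegral A ↥(integralClosure A (FractionRing A)) := integralClosure.AlgebraIsIntegral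
  haveI : (RingHom.ker f.1).IsPrime := RingHom.ker_isPrime f.1
  refine Ideal.isMaximal_of_isIntegral_of_isMaximal_comap (R := A) _ ?_
  rw [show (RingHom.ker f.1).comap (algebraMap A ↥(integralClosure A (FractionRing A))) = maximalIdeal A from
    Ideal.ext fun a => by rw [Ideal.mem_comap, RingHom.mem_ker, f.map_base, toClosure_eq_zero_iff]]
  exact maximalIdeal.isMaximal A

variable (A)

/-- The geometric branches are the geometric points of the integral closure. -/
theorem numGeomBranches_eq [IsReduced A] [IsNoetherianRing A] :
    Brnch.numGeomBranches A = ENat.card (GeomPt A) := by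
  classical
  let e := VarietyLib.normRedEquiv A (FractionRing A)
  have he : ∀ a, e.symm (algebraMap A ↥(integralClosure A (FractionRing A)) a) =
      algebraMap (CAlg2.red A) (CAlg2.normRed A) (Ideal.Quotient.mk _ a) := fun a => by
    rw [← VarietyLib.normRedEquiv_mk A (FractionRing A) a, e.symm_apply_apply]
  let F : (Σ m : MaximalSpectrum (CAlg2.normRed A), Brnch.Emb A m) → GeomPt A := fun s =>
    ⟨(s.2.1.comp (Ideal.Quotient.mk s.1.asIdeal)).comp e.symm.toRingHom, RingHom.ext fun a => by
      show s.2.1 (Ideal.Quotient.mk _ (e.symm (algebraMap A _ a))) = _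
      rw [he]
      exact RingHom.congr_fun s.2.2 a⟩
  rw [Brnch.numGeomBranches, if_pos (minimalPrimes.finite_of_isNoetherianRing A)]
  refine ENat.card_congr (Equiv.ofBijective F ⟨?_, ?_⟩)
  · rintro ⟨m, σ⟩ ⟨n, τ⟩ h
    have h' : ∀ z, σ.1 (Ideal.Quotient.mk m.asIdeal z) = τ.1 (Ideal.Quotient.mk n.asIdeal z) := fun z => by
      have := RingHom.congr_fun (congrArg Subtype.val h) (e z)
      simpa [F] using this
    have hmn : m = n := by
      haveI := m.isMaximal
      haveI := n.isMaximal
      letI := Ideal.Quotient.field m.asIdeal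
      letI := Ideal.Quotient.field n.asIdeal
      refine MaximalSpectrum.ext (Ideal.ext fun z => ?_)
      rw [← Ideal.Quotient.eq_zero_iff_mem, ← Ideal.Quotient.eq_zero_iff_mem,
        ← map_eq_zero_iff σ.1 σ.1.injective, ← map_eq_zero_iff τ.1 τ.1.injective, h']
    subst hmn
    have : σ = τ := Subtype.ext (Ideal.Quotient.ringHom_ext (RingHom.ext h'))
    rw [this]
  · intro f
    let g : CAlg2.normRed A →+* AlgebraicClosure (ResidueField A) := f.1.comp e.toRingHom
    haveI := f.isMaximal_ker
    haveI hg : (RingHom.ker g).IsMaximal := by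
      rw [show RingHom.ker g = (RingHom.ker f.1).comap e.toRingHom from (RingHom.comap_ker f.1 e.toRingHom).symm]
      exact Ideal.comap_isMaximal_of_surjective _ e.surjective
    refine ⟨⟨⟨RingHom.ker g, hg⟩, ⟨Ideal.Quotient.lift (RingHom.ker g) g fun _ h => h, RingHom.ext fun a => ?_⟩⟩,
      Subtype.ext (RingHom.ext fun z => ?_)⟩
    · show g (algebraMap (CAlg2.red A) (CAlg2.normRed A) (Ideal.Quotient.mk _ a)) = _
      rw [← he]
      show f.1 (e (e.symm _)) = _
      rw [e.apply_symm_apply]
      exact f.map_base a
    · show f.1 (e (e.symm z)) = f.1 z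
      rw [e.apply_symm_apply]

end Groth.Agent.NodeDelta9
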