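import Groth.Agent.NodeDelta9.Branches
import Groth.Agent.NodeLib7.Core
import Groth.Agent.S7655
import Groth.Prelude.Def_Curv2
import Mathlib

/-!
# A node has `δ = 1` and two geometric branches
-/

set_option autoImplicit false
set_option linter.style.haveILetI false
set_option maxHeartbeats 1000000

universe u

open IsLocalRing

namespace Groth.Agent.NodeDelta9

open NodeLib7

variable {A : Type u} [CommRing A] [IsLocalRing A] [IsNoetherianRing A]

/-- One may assume that the last coefficient is a unit. -/
theorem exists_nodeData_unit {x y a b c : A} (h : NodeData A x y a b c) :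
    ∃ x' y' a' b' c' : A, NodeData A x' y' a' b' c' ∧ IsUnit c' := by
  by_cases hc : IsUnit c
  · exact ⟨x, y, a, b, c, h, hc⟩
  by_cases ha : IsUnit a
  · refine ⟨y, x, c, b, a, ⟨?_, ?_, ?_, fun r s hrs => ?_, h.reg⟩, ha⟩
    · rw [Set.pair_comm]; exact h.span
    · rw [show 4 * c * a - b ^ 2 = 4 * a * c - b ^ 2 by ring]; exact h.disc
    · rw [show c * y ^ 2 + b * y * x + a * x ^ 2 = a * x ^ 2 + b * x * y + c * y ^ 2 by ring]; exact h.rel
    · obtain ⟨h1, h2⟩ := h.indep s r (by rwa [add_comm])
      exact ⟨h2, h1⟩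
  -- `x = x' + y'`, `y = y'`
  refine ⟨x - y, y, a, 2 * a + b, a + b + c, ⟨?_, ?_, ?_, fun r s hrs => ?_, h.reg⟩, ?_⟩
  · rw [← h.span]
    refine le_antisymm (Ideal.span_le.2 ?_) (Ideal.span_le.2 ?_)
    · rintro z (rfl | rfl)
      · exact Ideal.mem_span_pair.2 ⟨1, -1, by ring⟩
      · exact Ideal.subset_span (by simp)
    · rintro z (rfl | rfl)
      · exact Ideal.mem_span_pair.2 ⟨1, 1, by ring⟩
      · exact Ideal.subset_span (by simp)
  · rw [show 4 * a * (a + b + c) - (2 * a + b) ^ 2 = 4 * a * c - b ^ 2 by ring]; exact h.disc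
  · rw [show a * (x - y) ^ 2 + (2 * a + b) * (x - y) * y + (a + b + c) * y ^ 2 =
      a * x ^ 2 + b * x * y + c * y ^ 2 by ring]
    exact h.rel
  · obtain ⟨h1, h2⟩ := h.indep r (s - r) (by rwa [show r * x + (s - r) * y = r * (x - y) + s * y by ring])
    exact ⟨h1, by simpa using add_mem h2 h1⟩
  · have ha' : residue A a = 0 := (residue_eq_zero_iff a).2 ha
    have hc' : residue A c = 0 := (residue_eq_zero_iff c).2 hc
    have hb : residue A b ≠ 0 := fun hb => h.disc (by simp [map_sub, map_mul, map_pow, ha', hb])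
    refine (residue_ne_zero_iff_isUnit _).1 ?_
    simpa [map_add, ha', hc'] using hb

section

variable {x y a b c : A} (h : NodeData A x y a b c) (hc : IsUnit c)
include h

theorem x_mem : x ∈ maximalIdeal A := h.span ▸ Ideal.subset_span (by simp)

theorem y_mem : y ∈ maximalIdeal A := h.span ▸ Ideal.subset_span (by simp)

theorem exists_comb {m : A} (hm : m ∈ maximalIdeal A) : ∃ g i : A, g * x + i * y = m :=
  Ideal.mem_span_pair.1 (h.span.symm ▸ hm)

include hc in
theorem sq_le : maximalIdeal A ^ 2 ≤ Ideal.span {x} * maximalIdeal A := by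
  have hy2 : y ^ 2 ∈ Ideal.span {x} * maximalIdeal A ⊔ maximalIdeal A • maximalIdeal A ^ 2 := by
    obtain ⟨c', hc'⟩ := hc.exists_left_inv
    have h1 : c' * (a * x ^ 2 + b * x * y + c * y ^ 2) ∈ maximalIdeal A • maximalIdeal A ^ 2 := by
      rw [smul_eq_mul, ← pow_succ']; exact Ideal.mul_mem_left _ _ h.rel
    have e : y ^ 2 = -(x * (c' * a * x + c' * b * y)) + c' * (a * x ^ 2 + b * x * y + c * y ^ 2) := by
      linear_combination (-y ^ 2) * hc'
    rw [e]
    refine add_mem (Ideal.mem_sup_left (neg_mem ?_)) (Ideal.mem_sup_right h1)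
    exact Ideal.mul_mem_mul (Ideal.mem_span_singleton_self x)
      (add_mem (Ideal.mul_mem_left _ _ (x_mem h)) (Ideal.mul_mem_left _ _ (y_mem h)))
  refine Submodule.le_of_le_smul_of_le_jacobson_bot (IsNoetherian.noetherian _)
    (by rw [IsLocalRing.jacobson_eq_maximalIdeal ⊥ bot_ne_top]) ?_
  have hle : Ideal.span {x} * maximalIdeal A ≤ Ideal.span {x} * maximalIdeal A ⊔ maximalIdeal A • maximalIdeal A ^ 2 :=
    le_sup_left
  conv_lhs => rw [pow_two, ← h.span, Ideal.span_mul_span']
  refine Ideal.span_le.2 ?_
  rintro _ ⟨p, hp, q, hq, rfl⟩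
  show p * q ∈ _
  simp only [Set.mem_insert_iff, Set.mem_singleton_iff] at hp hq
  rcases hp with hp | hp <;> rcases hq with hq | hq <;> rw [hp, hq]
  · exact hle (Ideal.mul_mem_mul (Ideal.mem_span_singleton_self _) (x_mem h))
  · exact hle (Ideal.mul_mem_mul (Ideal.mem_span_singleton_self _) (y_mem h))
  · rw [mul_comm y x]; exact hle (Ideal.mul_mem_mul (Ideal.mem_span_singleton_self _) (y_mem h))
  · rw [← pow_two]; exact hy2

include hc in
theorem x_regular {z : A} (hz : x * z = 0) : z = 0 := by
  obtain ⟨t, htm, ht⟩ := h.reg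
  obtain ⟨m, -, hm⟩ := Ideal.mem_span_singleton_mul.1 (sq_le h hc (by rw [pow_two]; exact Ideal.mul_mem_mul htm htm : t * t ∈ maximalIdeal A ^ 2))
  exact ht z (ht (t * z) (by rw [← mul_assoc, ← hm, mul_comm x m, mul_assoc, hz, mul_zero]))

include hc in
theorem ringKrullDim_eq_one : ringKrullDim A = 1 := by
  have hmin : maximalIdeal A ∈ (Ideal.span {x}).minimalPrimes := by
    refine ⟨⟨inferInstance, (Ideal.span_singleton_le_iff_mem _).2 (x_mem h)⟩, fun P ⟨hP, hxP⟩ _ m hm => ?_⟩
    have h1 : m ^ 2 ∈ Ideal.span {x} * maximalIdeal A := sq_le h hc (Ideal.pow_mem_pow hm 2)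
    have h2 : Ideal.span {x} * maximalIdeal A ≤ Ideal.span {x} := Ideal.mul_le_left
    exact hP.mem_of_pow_mem 2 (hxP (h2 h1))
  refine le_antisymm ?_ ?_
  · rw [← IsLocalRing.maximalIdeal_height_eq_ringKrullDim]
    exact WithBot.coe_le_coe.2 (Ideal.height_le_one_of_isPrincipal_of_mem_minimalPrimes _ _ hmin)
  · rw [← IsLocalRing.maximalIdeal_height_eq_ringKrullDim]
    refine WithBot.coe_le_coe.2 (Order.one_le_iff_pos.2 (pos_iff_ne_zero.2 fun h0 => ?_))
    have hm0 : maximalIdeal A ∈ minimalPrimes A := Ideal.height_eq_zero_iff.1 h0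
    exact Set.disjoint_left.1 (Ideal.disjoint_nonZeroDivisors_of_mem_minimalPrimes hm0) (x_mem h)
      (mem_nonZeroDivisors_iff_left.2 fun z hz => x_regular h hc hz)

include hc in
/-- `δ = 1` and at least two geometric branches. -/
theorem delta_and_geom : Curv2.deltaInv A = 1 ∧ 2 ≤ ENat.card (GeomPt A) := by
  classical
  let K := FractionRing A
  let B := ↥(integralClosure A K)
  let κ' := AlgebraicClosure (ResidueField A)
  let τ : A →+* κ' := Brnch.toClosure A
  have hτ : ∀ z, τ z = 0 ↔ z ∈ maximalIdeal A := toClosure_eq_zero_iff A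
  have hxn : x ∈ nonZeroDivisors A := mem_nonZeroDivisors_iff_left.2 fun z hz => x_regular h hc hz
  have hinj : Function.Injective (algebraMap A K) := IsFractionRing.injective A K
  let θ : K := IsLocalization.mk' K y ⟨x, hxn⟩
  have hθ : algebraMap A K x * θ = algebraMap A K y := IsLocalization.mk'_spec' K y ⟨x, hxn⟩
  have hxu : IsUnit (algebraMap A K x) := IsLocalization.map_units K (⟨x, hxn⟩ : nonZeroDivisors A)
  -- the quadratic equation
  obtain ⟨w, hw, hwy⟩ := Ideal.mem_span_singleton_mul.1 (sq_le h hc (Ideal.pow_mem_pow (y_mem h) 2))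
  obtain ⟨p, q, hpq⟩ := exists_comb h hw
  have hy2 : y ^ 2 = x * (p * x + q * y) := by rw [hpq, hwy]
  have hθ2 : θ * θ = algebraMap A K p + algebraMap A K q * θ := by
    refine (hxu.mul hxu).mul_left_cancel ?_
    calc algebraMap A K x * algebraMap A K x * (θ * θ) = algebraMap A K (y ^ 2) := by
          rw [map_pow, ← hθ]; ring
      _ = _ := by rw [hy2, map_mul, map_add, map_mul, map_mul, ← hθ]; ring
  have hres : τ c * τ p + τ a = 0 ∧ τ c * τ q + τ b = 0 := by
    have hrel : x * ((c * p + a) * x + (c * q + b) * y) ∈ maximalIdeal A ^ 3 := by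
      rw [show x * ((c * p + a) * x + (c * q + b) * y) = a * x ^ 2 + b * x * y + c * (x * (p * x + q * y)) by ring,
        ← hy2]
      exact h.rel
    have h3 : maximalIdeal A ^ 3 ≤ Ideal.span {x} * maximalIdeal A ^ 2 := by
      rw [pow_succ', pow_two, ← pow_two]
      refine (Ideal.mul_mono_right (sq_le h hc)).trans ?_
      rw [← mul_assoc, mul_comm (maximalIdeal A), mul_assoc, ← pow_two]
    obtain ⟨r, hr, hrx⟩ := Ideal.mem_span_singleton_mul.1 (h3 hrel)
    have := x_regular h hc (z := r - ((c * p + a) * x + (c * q + b) * y)) (by rw [mul_sub, hrx, sub_self])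
    rw [sub_eq_zero] at this
    obtain ⟨h1, h2⟩ := h.indep _ _ (this ▸ hr)
    exact ⟨by rw [← map_mul, ← map_add]; exact (hτ _).2 h1, by rw [← map_mul, ← map_add]; exact (hτ _).2 h2⟩
  -- two roots
  have hτc : τ c ≠ 0 := fun e => (hτ c).1 e hc
  have h2 : (τ b) ^ 2 - 4 * τ a * τ c ≠ 0 := fun e => h.disc ((residue_eq_zero_iff _).2 ((hτ _).1 (by
    rw [map_sub, map_mul, map_mul, map_pow, map_ofNat]; linear_combination -e)))
  obtain ⟨r₁, hr₁⟩ := IsAlgClosed.exists_root
    (Polynomial.X ^ 2 - Polynomial.C (τ q) * Polynomial.X - Polynomial.C (τ p) : Polynomial κ')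
    (by rw [Polynomial.degree_eq_natDegree (fun e => by simpa using congrArg (Polynomial.coeff · 2) e)]; exact_mod_cast (show Polynomial.natDegree _ = 2 by compute_degree!).trans_ne two_ne_zero)
  have hr₁' : r₁ * r₁ = τ p + τ q * r₁ := by
    simp only [Polynomial.IsRoot, Polynomial.eval_sub, Polynomial.eval_pow, Polynomial.eval_X,
      Polynomial.eval_mul, Polynomial.eval_C] at hr₁
    linear_combination hr₁
  let r₂ : κ' := τ q - r₁
  have hr₂' : r₂ * r₂ = τ p + τ q * r₂ := by
    show (τ q - r₁) * (τ q - r₁) = τ p + τ q * (τ q - r₁)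
    linear_combination hr₁'
  have hne : r₁ ≠ r₂ := fun e => h2 (by
    have e' : r₁ = τ q - r₁ := e
    linear_combination (τ b - τ c * τ q) * hres.2 + (-4 * τ c) * hres.1 + (-4 * τ c ^ 2) * hr₁' +
      (τ c ^ 2 * (2 * r₁ - τ q)) * e')
  -- uniqueness of coordinates modulo `m`
  have hcoord : ∀ u v : A, algebraMap A K u + algebraMap A K v * θ = 0 → τ u = 0 ∧ τ v = 0 := by
    intro u v huv
    have : u * x + v * y = 0 := hinj (by
      rw [map_add, map_mul, map_mul, map_zero, ← hθ]; linear_combination (algebraMap A K x) * huv)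
    obtain ⟨h1, h2⟩ := h.indep u v (this ▸ zero_mem _)
    exact ⟨(hτ u).2 h1, (hτ v).2 h2⟩
  have hθB : IsIntegral A θ :=
    ⟨Polynomial.X ^ 2 - (Polynomial.C q * Polynomial.X + Polynomial.C p),
      Polynomial.monic_X_pow_sub (lt_of_le_of_lt Polynomial.degree_linear_le (by norm_num)),
      by simp only [Polynomial.eval₂_sub, Polynomial.eval₂_add, Polynomial.eval₂_X_pow, Polynomial.eval₂_mul,
          Polynomial.eval₂_C, Polynomial.eval₂_X]; linear_combination hθ2⟩
  -- the integral closure is `A + A θ`
  let S : K → Prop := fun z => ∃ u v : A, z = algebraMap A K u + algebraMap A K v * θ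
  have hSmul : ∀ z z', S z → S z' → S (z * z') := by
    rintro _ _ ⟨u, v, rfl⟩ ⟨u', v', rfl⟩
    exact ⟨u * u' + v * v' * p, u * v' + v * u' + v * v' * q, by
      simp only [map_add, map_mul]; linear_combination (algebraMap A K v * algebraMap A K v') * hθ2⟩
  haveI : Ring.KrullDimLE 1 A := Ring.krullDimLE_iff.2 (ringKrullDim_eq_one h hc).le
  have hclear : ∀ z : K, ∃ n : ℕ, S (algebraMap A K x ^ n * z) := by
    intro z
    obtain ⟨⟨u, d⟩, hud⟩ := IsLocalization.surj (nonZeroDivisors A) z
    obtain ⟨n, hn⟩ : ∃ n : ℕ, x ^ n ∈ Ideal.span {(d : A)} := by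
      rw [← Ideal.mem_radical_iff, Ideal.radical_eq_sInf, Submodule.mem_sInf]
      rintro P ⟨hdP, hP⟩
      rcases Ring.krullDimLE_one_iff.1 inferInstance P hP with hmin | hmax
      · exact absurd d.2 (Set.disjoint_left.1 (Ideal.disjoint_nonZeroDivisors_of_mem_minimalPrimes hmin)
          (hdP (Ideal.mem_span_singleton_self _)))
      · rw [IsLocalRing.eq_maximalIdeal hmax]; exact x_mem h
    obtain ⟨e, he⟩ := Ideal.mem_span_singleton'.1 hn
    exact ⟨n, e * u, 0, by rw [map_zero, zero_mul, add_zero, map_mul, ← hud, ← map_pow, ← he, map_mul]; ring⟩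
  have hS : ∀ z : K, IsIntegral A z → S z := by
    intro z hz
    obtain ⟨n, hn⟩ := hclear z
    induction n with
    | zero => simpa using hn
    | succ n ih =>
      refine ih ?_
      obtain ⟨u, v, huv⟩ := hn
      obtain ⟨P, hP, hPe⟩ := (isIntegral_algebraMap (R := A) (A := K) (x := x ^ n)).mul hz
      set N := P.natDegree with hN
      have h0 : Polynomial.eval₂ (algebraMap A K) (algebraMap A K u + algebraMap A K v * θ) (P.scaleRoots x) = 0 := by
        rw [← huv, pow_succ', mul_assoc, Polynomial.scaleRoots_eval₂_mul,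
          show algebraMap A K x ^ n * z = algebraMap A K (x ^ n) * z by rw [map_pow], hPe, mul_zero]
      -- evaluate at the two geometric points
      have key : ∀ r : κ', r * r = τ p + τ q * r → τ u + τ v * r = 0 := by
        intro r hr
        have hev : ∀ Q : Polynomial A, ∃ u' v' : A,
            Polynomial.eval₂ (algebraMap A K) (algebraMap A K u + algebraMap A K v * θ) Q =
              algebraMap A K u' + algebraMap A K v' * θ ∧
            Polynomial.eval₂ τ (τ u + τ v * r) Q = τ u' + τ v' * r := by
          intro Q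
          induction Q using Polynomial.induction_on' with
          | add Q₁ Q₂ i1 i2 =>
            obtain ⟨u1, v1, e1, f1⟩ := i1
            obtain ⟨u2, v2, e2, f2⟩ := i2
            refine ⟨u1 + u2, v1 + v2, ?_, ?_⟩
            · rw [Polynomial.eval₂_add, e1, e2, map_add, map_add]; ring
            · rw [Polynomial.eval₂_add, f1, f2, map_add, map_add]; ring
          | monomial i e =>
            induction i with
            | zero => exact ⟨e, 0, by simp, by simp⟩
            | succ i ihi =>
              obtain ⟨u1, v1, e1, f1⟩ := ihi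
              refine ⟨u1 * u + v1 * v * p, u1 * v + v1 * u + v1 * v * q, ?_, ?_⟩
              · rw [← Polynomial.monomial_mul_X, Polynomial.eval₂_mul_X, e1]
                simp only [map_add, map_mul]
                linear_combination (algebraMap A K v1 * algebraMap A K v) * hθ2
              · rw [← Polynomial.monomial_mul_X, Polynomial.eval₂_mul_X, f1]
                simp only [map_add, map_mul]
                linear_combination (τ v1 * τ v) * hr
        obtain ⟨u', v', e', f'⟩ := hev (P.scaleRoots x)
        obtain ⟨hu', hv'⟩ := hcoord u' v' (e'.symm.trans h0)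
        rw [hu', hv', zero_mul, add_zero] at f'
        have hmap : (P.scaleRoots x).map τ = Polynomial.X ^ N := by
          ext i
          rw [Polynomial.coeff_map, Polynomial.coeff_scaleRoots, Polynomial.coeff_X_pow, map_mul, map_pow,
            (hτ x).2 (x_mem h)]
          rcases lt_trichotomy i N with hi | hi | hi
          · rw [zero_pow (by omega), mul_zero, if_neg (by omega)]
          · subst hi; simp [hN, hP.coeff_natDegree]
          · rw [Polynomial.coeff_eq_zero_of_natDegree_lt hi, map_zero, zero_mul, if_neg (by omega)]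
        rw [← Polynomial.eval_map, hmap, Polynomial.eval_pow, Polynomial.eval_X] at f'
        exact eq_zero_of_pow_eq_zero f'
      have hv0 : τ v = 0 := by
        have := key r₁ hr₁'
        have := key r₂ hr₂'
        exact (mul_eq_zero.1 (show τ v * (r₁ - r₂) = 0 by linear_combination key r₁ hr₁' - key r₂ hr₂')).resolve_right
          (sub_ne_zero.2 hne)
      have hu0 : τ u = 0 := by simpa [hv0] using key r₁ hr₁'
      obtain ⟨g₁, i₁, e₁⟩ := exists_comb h ((hτ u).1 hu0)
      obtain ⟨g₂, i₂, e₂⟩ := exists_comb h ((hτ v).1 hv0)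
      refine ⟨g₁ + i₂ * p, i₁ + g₂ + i₂ * q, hxu.mul_left_cancel ?_⟩
      rw [← mul_assoc, ← pow_succ', huv, ← e₁, ← e₂]
      simp only [map_add, map_mul, ← hθ]
      linear_combination (algebraMap A K x * algebraMap A K i₂) * hθ2
  let θB : B := ⟨θ, hθB⟩
  have hB : ∀ z : B, ∃ u v : A, z = algebraMap A B u + algebraMap A B v * θB := fun z => by
    obtain ⟨u, v, huv⟩ := hS z.1 z.2
    exact ⟨u, v, Subtype.ext huv⟩
  refine ⟨?_, ?_⟩
  · -- the cokernel is the residue field
    unfold Curv2.deltaInv
    rw [Module.length_eq_one_iff]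
    let R := LinearMap.range (Algebra.linearMap A B)
    have hθR : θB ∉ R := by
      rintro ⟨u, hu⟩
      have := hcoord u (-1) (by
        rw [map_neg, map_one, neg_one_mul, ← sub_eq_add_neg, sub_eq_zero]
        exact congrArg Subtype.val hu)
      simp [map_neg] at this
    refine isSimpleModule_iff_toSpanSingleton_surjective.2 ⟨?_, ?_⟩
    · exact Submodule.Quotient.nontrivial_iff.2 fun e => hθR (by rw [show R = ⊤ from e]; exact Submodule.mem_top)
    · intro q hq z
      obtain ⟨q, rfl⟩ := Submodule.Quotient.mk_surjective _ q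
      obtain ⟨z, rfl⟩ := Submodule.Quotient.mk_surjective _ z
      obtain ⟨u, v, rfl⟩ := hB q
      obtain ⟨u', v', rfl⟩ := hB z
      have hv : IsUnit v := by
        by_contra hv
        obtain ⟨g, i, e⟩ := exists_comb h (show v ∈ maximalIdeal A from hv)
        refine hq ((Submodule.Quotient.mk_eq_zero _).2 ?_)
        refine ⟨u + g * y + i * (p * x + q * y), Subtype.ext ?_⟩
        show algebraMap A K (u + g * y + i * (p * x + q * y)) = algebraMap A K u + algebraMap A K v * θ
        rw [← e]
        simp only [map_add, map_mul, ← hθ]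
        linear_combination (-(algebraMap A K x * algebraMap A K i)) * hθ2
      obtain ⟨v'', hv''⟩ := hv.exists_left_inv
      refine ⟨v' * v'', ?_⟩
      rw [LinearMap.toSpanSingleton_apply, ← Submodule.Quotient.mk_smul, Submodule.Quotient.eq]
      refine ⟨v' * v'' * u - u', ?_⟩
      show algebraMap A B (v' * v'' * u - u') = _
      rw [Algebra.smul_def, map_sub]
      simp only [map_mul]
      have e : algebraMap A B v'' * algebraMap A B v = 1 := by rw [← map_mul, hv'', map_one]
      linear_combination (-(algebraMap A B v' * θB)) * e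
  · -- two geometric points
    have hwd : ∀ r : κ', r * r = τ p + τ q * r → ∃ f : GeomPt A, f.1 θB = r := by
      intro r hr
      choose U V hUV using hB
      have hval : ∀ (z : B) (u v : A), z = algebraMap A B u + algebraMap A B v * θB →
          τ (U z) + τ (V z) * r = τ u + τ v * r := by
        intro z u v e
        obtain ⟨h1, h2⟩ := hcoord (U z - u) (V z - v) (by
          have := congrArg Subtype.val ((hUV z).symm.trans e)
          change algebraMap A K (U z) + algebraMap A K (V z) * θ = algebraMap A K u + algebraMap A K v * θ at this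
          simp only [map_sub]
          linear_combination this)
        rw [map_sub, sub_eq_zero] at h1 h2
        rw [h1, h2]
      let f : B →+* κ' :=
        { toFun := fun z => τ (U z) + τ (V z) * r
          map_one' := by rw [hval 1 1 0 (by simp)]; simp
          map_zero' := by rw [hval 0 0 0 (by simp)]; simp
          map_add' := fun z w => by
            rw [hval (z + w) (U z + U w) (V z + V w) (by
              rw [map_add, map_add]; linear_combination hUV z + hUV w), map_add, map_add]
            ring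
          map_mul' := fun z w => by
            have hθ2B : θB * θB = algebraMap A B p + algebraMap A B q * θB := Subtype.ext hθ2
            rw [hval (z * w) (U z * U w + V z * V w * p) (U z * V w + V z * U w + V z * V w * q) (by
              conv_lhs => rw [hUV z, hUV w]
              simp only [map_add, map_mul]
              linear_combination (algebraMap A B (V z) * algebraMap A B (V w)) * hθ2B)]
            simp only [map_add, map_mul]
            linear_combination (-(τ (V z) * τ (V w))) * hr }
      refine ⟨⟨f, RingHom.ext fun e => ?_⟩, ?_⟩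
      · show τ (U _) + τ (V _) * r = τ e
        rw [hval _ e 0 (by rw [map_zero, zero_mul, add_zero]), map_zero, zero_mul, add_zero]
      · show τ (U θB) + τ (V θB) * r = r
        rw [hval θB 0 1 (by simp)]; simp
    obtain ⟨f₁, hf₁⟩ := hwd r₁ hr₁'
    obtain ⟨f₂, hf₂⟩ := hwd r₂ hr₂'
    have hf : f₁ ≠ f₂ := fun e => hne (by rw [← hf₁, ← hf₂, e])
    exact Order.add_one_le_of_lt ((ENat.one_lt_card_iff_nontrivial _).2 ⟨f₁, f₂, hf⟩) |>.trans' one_add_one_eq_two.ge

end

/-- A node has `δ = 1` and two geometric branches. -/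
theorem of_nodeData [_root_.IsReduced A] (hN : CAlg.IsNagata A) {x y a b c : A} (h : NodeData A x y a b c) :
    ringKrullDim A = 1 ∧ Curv2.deltaInv A = 1 ∧ Brnch.numGeomBranches A = 2 := by
  obtain ⟨x', y', a', b', c', h', hc⟩ := exists_nodeData_unit h
  have hd := ringKrullDim_eq_one h' hc
  obtain ⟨hδ, h2⟩ := delta_and_geom h' hc
  refine ⟨hd, hδ, le_antisymm ?_ ?_⟩
  · have := S7655.result A hN hd
    rw [hδ] at this
    exact this.trans_eq one_add_one_eq_two
  · rw [numGeomBranches_eq]
    exact h2

end Groth.Agent.NodeDelta9
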