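import Groth.Agent.NodeDelta9.Branches
import Groth.Agent.NodeLib7.Core
import Groth.Agent.S7652
import Groth.Agent.Multicross24.Wedge
import Groth.Prelude.Def_Curv2
import Mathlib

/-!
# `δ = 1` and two geometric branches give a node
-/

set_option autoImplicit false
set_option linter.style.haveILetI false
set_option maxHeartbeats 1000000
set_option synthInstance.maxHeartbeats 200000

universe u

open IsLocalRing

namespace Groth.Agent.NodeDelta9

open NodeLib7

/-- An element lying in `M` and not in `M²` stays outside the square after localizing. -/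
theorem not_mem_sq_localization {B : Type u} [CommRing B] (M : Ideal B) [hM : M.IsMaximal] {π : B}
    (hπ : π ∈ M) (hπ2 : π ∉ M ^ 2) :
    algebraMap B (Localization.AtPrime M) π ∉ maximalIdeal (Localization.AtPrime M) ^ 2 := by
  intro h
  rw [← IsLocalization.AtPrime.map_eq_maximalIdeal M (Localization.AtPrime M), ← Ideal.map_pow,
    IsLocalization.algebraMap_mem_map_algebraMap_iff M.primeCompl] at h
  obtain ⟨s, hs, hsπ⟩ := h
  obtain ⟨z, i, hi, hzi⟩ := hM.exists_inv hs
  refine hπ2 ?_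
  have e : π = z * (s * π) + i * π := by linear_combination (-π) * hzi
  rw [e]
  exact add_mem (Ideal.mul_mem_left _ _ hsπ) (by rw [pow_two]; exact Ideal.mul_mem_mul hi hπ)

variable (A : Type u) [CommRing A] [IsLocalRing A] [_root_.IsReduced A]

theorem isDVR (hN : CAlg.IsNagata A) (hdim : ringKrullDim A = 1) (M : Ideal ↥(integralClosure A (FractionRing A)))
    [M.IsMaximal] : ∃ _ : IsDomain (Localization.AtPrime M), IsDiscreteValuationRing (Localization.AtPrime M) := by
  classical
  haveI : IsNoetherianRing A := hN.1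
  let B := ↥(integralClosure A (FractionRing A))
  obtain ⟨hfin, hloc, -⟩ := S7652.result A hN hdim
  haveI : Module.Finite A B := hfin
  haveI : IsNoetherianRing B := IsNoetherianRing.of_finite A B
  obtain ⟨hdom, hicl⟩ := hloc ⟨M, inferInstance⟩
  let L := Localization.AtPrime M
  haveI : IsDomain L := hdom
  haveI : IsIntegrallyClosed L := hicl
  haveI : Algebra.IsIntegral A B := Algebra.IsIntegral.of_finite A B
  haveI : Ring.KrullDimLE 1 A := Ring.krullDimLE_iff.2 hdim.le
  haveI : IsNoetherianRing L := IsLocalization.isNoetherianRing M.primeCompl L inferInstance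
  have hmA : M.comap (algebraMap A B) = maximalIdeal A :=
    IsLocalRing.eq_maximalIdeal (Ideal.isMaximal_comap_of_isIntegral_of_isMaximal M)
  obtain ⟨d, hdm, hd⟩ := Multicross24.exists_regular A hdim
  have hdne : algebraMap B L (algebraMap A B d) ≠ 0 := fun h => by
    obtain ⟨u, hu⟩ := (IsLocalization.map_eq_zero_iff M.primeCompl L _).1 h
    refine u.2 ?_
    have h1 : (((u : B) : FractionRing A)) * algebraMap A (FractionRing A) d = 0 := congrArg Subtype.val hu
    rw [((IsLocalization.map_units (FractionRing A) ⟨d, hd⟩).mul_left_eq_zero)] at h1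
    rw [show (u : B) = 0 from Subtype.ext h1]
    exact zero_mem _
  have hdP : algebraMap B L (algebraMap A B d) ∈ maximalIdeal L :=
    (IsLocalization.AtPrime.to_map_mem_maximal_iff L M _).2 (hmA.ge hdm)
  have hnf : ¬ IsField L := fun hF => hdne (by
    rw [IsLocalRing.isField_iff_maximalIdeal_eq.1 hF] at hdP
    simpa using hdP)
  refine ⟨hdom, ((IsDiscreteValuationRing.TFAE L hnf).out 0 3 (a := IsDiscreteValuationRing L)
    (b := IsIntegrallyClosed L ∧ ∃! P : Ideal L, P ≠ ⊥ ∧ P.IsPrime)).2 ⟨hicl, maximalIdeal L,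
    ⟨fun h => hdne (by simpa [h] using hdP), inferInstance⟩, ?_⟩⟩
  rintro P ⟨hP0, hP⟩
  refine IsLocalRing.eq_maximalIdeal ?_
  let Q := P.comap (algebraMap B L)
  let Q₀ := (⊥ : Ideal L).comap (algebraMap B L)
  haveI : Q₀.IsPrime := Ideal.comap_isPrime _ _
  haveI : Q.IsPrime := Ideal.comap_isPrime _ _
  have hlt : Q₀ < Q := by
    refine lt_of_le_of_ne (Ideal.comap_mono bot_le) fun h => hP0 ?_
    rw [← IsLocalization.map_comap M.primeCompl L P]
    exact (congrArg (Ideal.map (algebraMap B L)) h.symm).trans (IsLocalization.map_comap M.primeCompl L ⊥)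
  have hlt' : Q₀.comap (algebraMap A B) < Q.comap (algebraMap A B) := Ideal.IsIntegral.comap_lt_comap hlt
  have hQm : (Q.comap (algebraMap A B)).IsMaximal :=
    (Ring.krullDimLE_one_iff.1 inferInstance _ (Ideal.comap_isPrime _ _)).resolve_left fun h =>
      absurd (h.2 ⟨Ideal.comap_isPrime _ _, bot_le⟩ hlt'.le) (not_le_of_gt hlt')
  have hQmax : Q.IsMaximal := Ideal.IsIntegral.isMaximal_of_isMaximal_comap Q hQm
  have hQm' : Q = M := hQmax.eq_of_le (Ideal.IsMaximal.ne_top inferInstance) fun x hx => by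
    by_contra hxm
    exact hP.ne_top (Ideal.eq_top_of_isUnit_mem _ hx (IsLocalization.map_units L (⟨x, hxm⟩ : M.primeCompl)))
  have hPmax : P = maximalIdeal L := by
    rw [← IsLocalization.map_comap M.primeCompl L P]
    exact (congrArg (Ideal.map (algebraMap B L)) hQm').trans (IsLocalization.AtPrime.map_eq_maximalIdeal M L)
  exact hPmax ▸ IsLocalRing.maximalIdeal.isMaximal L

/-- `δ = 1` and two geometric branches give node data. -/
theorem exists_nodeData (hN : CAlg.IsNagata A) (hdim : ringKrullDim A = 1) (hδ : Curv2.deltaInv A = 1)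
    (hg : Brnch.numGeomBranches A = 2) : ∃ x y a b c : A, NodeData A x y a b c := by
  classical
  haveI : IsNoetherianRing A := hN.1
  let K := FractionRing A
  let B := ↥(integralClosure A K)
  let ι := algebraMap A B
  have hinj : Function.Injective ι := fun s t e => IsFractionRing.injective A K (congrArg Subtype.val e)
  let τ := Brnch.toClosure A
  have hτ : ∀ z, τ z = 0 ↔ z ∈ maximalIdeal A := toClosure_eq_zero_iff A
  rw [numGeomBranches_eq] at hg
  haveI : Nontrivial (GeomPt A) := (ENat.one_lt_card_iff_nontrivial _).1 (by rw [hg]; norm_num)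
  obtain ⟨f₁, f₂, hf⟩ := exists_pair_ne (GeomPt A)
  obtain ⟨θ, hθ⟩ : ∃ z, f₁.1 z ≠ f₂.1 z := by
    by_contra hc
    push Not at hc
    exact hf (Subtype.ext (RingHom.ext hc))
  let R := LinearMap.range (Algebra.linearMap A B)
  have hθR : θ ∉ R := by
    rintro ⟨a, rfl⟩
    exact hθ ((f₁.map_base a).trans (f₂.map_base a).symm)
  haveI : IsSimpleModule A (B ⧸ R) := Module.length_eq_one_iff.1 hδ
  have hspan : ∀ z : B, ∃ u v : A, z = ι u + ι v * θ := by
    intro z
    obtain ⟨v, hv⟩ := ((isSimpleModule_iff_toSpanSingleton_surjective (R := A)).1 inferInstance).2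
      (Submodule.Quotient.mk θ : B ⧸ R) (fun e => hθR ((Submodule.Quotient.mk_eq_zero _).1 e))
      (Submodule.Quotient.mk z)
    replace hv := (Submodule.Quotient.eq R).1 ((Submodule.Quotient.mk_smul R v θ).trans hv)
    obtain ⟨u, hu⟩ := hv
    refine ⟨-u, v, ?_⟩
    have : ι u = v • θ - z := hu
    rw [Algebra.smul_def] at this
    rw [map_neg]
    linear_combination this
  obtain ⟨u₀, v₀, hθ2⟩ := hspan (θ * θ)
  -- the conductor
  have hmθ : ∀ a ∈ maximalIdeal A, ∃ w, ι w = ι a * θ := by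
    intro a ha
    by_contra hc
    have hne : (Submodule.Quotient.mk (a • θ) : B ⧸ R) ≠ 0 := fun e => by
      obtain ⟨w, hw⟩ := (Submodule.Quotient.mk_eq_zero _).1 e
      exact hc ⟨w, hw.trans (Algebra.smul_def a θ)⟩
    obtain ⟨v, hv⟩ := ((isSimpleModule_iff_toSpanSingleton_surjective (R := A)).1 inferInstance).2 _ hne
      (Submodule.Quotient.mk θ)
    replace hv := (Submodule.Quotient.eq R).1 ((Submodule.Quotient.mk_smul R v (a • θ)).trans hv)
    obtain ⟨u, hu⟩ := hv
    have e1 : ι u = ι v * (ι a * θ) - θ := by rw [← Algebra.smul_def, ← Algebra.smul_def]; exact hu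
    have hunit : IsUnit (v * a - 1) := by
      refine (residue_ne_zero_iff_isUnit _).1 ?_
      rw [map_sub, map_mul, (residue_eq_zero_iff a).2 ha, mul_zero, map_one, zero_sub]
      exact neg_ne_zero.2 one_ne_zero
    obtain ⟨w, hw⟩ := hunit.exists_left_inv
    refine hθR ⟨w * u, ?_⟩
    show ι (w * u) = θ
    have e2 : ι w * (ι v * ι a - 1) = 1 := by rw [← map_mul, ← map_one ι, ← map_sub, ← map_mul, hw]
    rw [map_mul, e1]
    linear_combination θ * e2
  let J : Ideal B :=
    { carrier := {z | ∃ a ∈ maximalIdeal A, ι a = z}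
      add_mem' := by rintro _ _ ⟨a, ha, rfl⟩ ⟨b, hb, rfl⟩; exact ⟨a + b, add_mem ha hb, map_add _ _ _⟩
      zero_mem' := ⟨0, zero_mem _, map_zero _⟩
      smul_mem' := by
        rintro z _ ⟨a, ha, rfl⟩
        obtain ⟨u, v, rfl⟩ := hspan z
        obtain ⟨w, hw⟩ := hmθ a ha
        refine ⟨u * a + v * w, add_mem (Ideal.mul_mem_left _ _ ha) (Ideal.mul_mem_left _ _ ?_), ?_⟩
        · rw [← hτ]
          show τ w = 0
          rw [← f₁.map_base w, show f₁.1 (ι w) = f₁.1 (ι a * θ) by rw [hw], map_mul, f₁.map_base,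
            (hτ a).2 ha, zero_mul]
        · rw [smul_eq_mul, map_add, map_mul, map_mul, hw]; ring }
  have hJ : ∀ z, f₁.1 z = 0 → f₂.1 z = 0 → z ∈ J := by
    intro z h1 h2
    obtain ⟨u, v, rfl⟩ := hspan z
    rw [map_add, map_mul, f₁.map_base, f₁.map_base] at h1
    rw [map_add, map_mul, f₂.map_base, f₂.map_base] at h2
    have hv : τ v = 0 := (mul_eq_zero.1 (show τ v * (f₁.1 θ - f₂.1 θ) = 0 by linear_combination h1 - h2)).resolve_right
      (sub_ne_zero.2 hθ)
    have hu : τ u = 0 := by simpa [τ, hv] using h1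
    obtain ⟨w, hw⟩ := hmθ v ((hτ v).1 hv)
    refine ⟨u + w, add_mem ((hτ u).1 hu) ?_, by rw [map_add, hw]⟩
    rw [← hτ]
    show τ w = 0
    rw [← f₁.map_base w, show f₁.1 (ι w) = f₁.1 (ι v * θ) by rw [hw], map_mul, f₁.map_base]
    exact mul_eq_zero_of_left hv _
  have hJ' : ∀ (f : GeomPt A), ∀ z ∈ J, f.1 z = 0 := by
    rintro f _ ⟨a, ha, rfl⟩
    rw [f.map_base]; exact (hτ a).2 ha
  let M₁ := RingHom.ker f₁.1
  let M₂ := RingHom.ker f₂.1
  haveI hM₁ : M₁.IsMaximal := f₁.isMaximal_ker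
  haveI hM₂ : M₂.IsMaximal := f₂.isMaximal_ker
  haveI : Algebra.IsIntegral A B := integralClosure.AlgebraIsIntegral
  have hmax : ∀ M : Ideal B, M.IsMaximal → M = M₁ ∨ M = M₂ := by
    intro M hM
    have hle : M₁ * M₂ ≤ M := fun z hz => by
      obtain ⟨a, ha, rfl⟩ := hJ z (Ideal.mul_le_left (J := M₂) hz) (Ideal.mul_le_right (I := M₁) hz)
      have : M.comap ι = maximalIdeal A :=
        IsLocalRing.eq_maximalIdeal (Ideal.isMaximal_comap_of_isIntegral_of_isMaximal M)
      exact this.ge ha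
    rcases hM.isPrime.mul_le.1 hle with h | h
    · exact Or.inl (hM₁.eq_of_le hM.ne_top h).symm
    · exact Or.inr (hM₂.eq_of_le hM.ne_top h).symm
  -- `J` generates the maximal ideal of each localization
  have hmap : ∀ (M : Ideal B) [M.IsMaximal],
      J.map (algebraMap B (Localization.AtPrime M)) = maximalIdeal (Localization.AtPrime M) := by
    intro M hM
    refine le_antisymm (Ideal.map_le_iff_le_comap.2 fun z hz => ?_) ?_
    · rw [Ideal.mem_comap, IsLocalization.AtPrime.to_map_mem_maximal_iff _ M]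
      rcases hmax M hM with rfl | rfl
      · exact hJ' f₁ z hz
      · exact hJ' f₂ z hz
    · rw [← IsLocalization.AtPrime.map_eq_maximalIdeal M (Localization.AtPrime M), Ideal.map_le_iff_le_comap]
      intro z hz
      rw [Ideal.mem_comap, IsLocalization.algebraMap_mem_map_algebraMap_iff M.primeCompl]
      by_cases h12 : M₁ = M₂
      · refine ⟨1, one_mem _, ?_⟩
        rw [one_mul]
        rcases hmax M hM with rfl | rfl
        · exact hJ z hz (show z ∈ M₂ from h12 ▸ hz)
        · exact hJ z (show z ∈ M₁ from h12 ▸ hz) hz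
      · rcases hmax M hM with rfl | rfl
        · obtain ⟨s, hs2, hs1⟩ := SetLike.not_le_iff_exists.1 fun hle => h12 (hM₂.eq_of_le hM₁.ne_top hle).symm
          exact ⟨s, hs1, hJ _ (Ideal.mul_mem_left M₁ s hz) (Ideal.mul_mem_right z M₂ hs2)⟩
        · obtain ⟨s, hs1, hs2⟩ := SetLike.not_le_iff_exists.1 fun hle => h12 (hM₁.eq_of_le hM₂.ne_top hle)
          exact ⟨s, hs2, hJ _ (Ideal.mul_mem_right z M₁ hs1) (Ideal.mul_mem_left M₂ s hz)⟩
  have hnot : ∀ (M : Ideal B) [M.IsMaximal], ∃ z ∈ J, z ∉ M ^ 2 := by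
    intro M hM
    obtain ⟨hdom, hdvr⟩ := isDVR A hN hdim M
    by_contra hc
    push Not at hc
    have hle : maximalIdeal (Localization.AtPrime M) ≤ maximalIdeal (Localization.AtPrime M) ^ 2 := by
      nth_rewrite 1 [← hmap M]
      rw [← IsLocalization.AtPrime.map_eq_maximalIdeal M (Localization.AtPrime M), ← Ideal.map_pow]
      exact Ideal.map_mono hc
    obtain ⟨ϖ, hϖ⟩ := IsDiscreteValuationRing.exists_irreducible (Localization.AtPrime M)
    rw [hϖ.maximalIdeal_eq, Ideal.span_singleton_pow, Ideal.span_singleton_le_span_singleton] at hle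
    exact hϖ.not_isUnit (isUnit_of_dvd_one ((mul_dvd_mul_iff_left hϖ.ne_zero).1 (by rwa [mul_one, ← pow_two])))
  obtain ⟨π, hπJ, hπ1, hπ2⟩ : ∃ π ∈ J, π ∉ M₁ ^ 2 ∧ π ∉ M₂ ^ 2 := by
    obtain ⟨p₁, hp₁, hp₁'⟩ := hnot M₁
    obtain ⟨p₂, hp₂, hp₂'⟩ := hnot M₂
    by_cases h1 : p₁ ∈ M₂ ^ 2
    · by_cases h2 : p₂ ∈ M₁ ^ 2
      · exact ⟨p₁ + p₂, add_mem hp₁ hp₂, fun e => hp₁' (by simpa using sub_mem e h2),
          fun e => hp₂' (by simpa using sub_mem e h1)⟩
      · exact ⟨p₂, hp₂, h2, hp₂'⟩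
    · exact ⟨p₁, hp₁, hp₁', h1⟩
  have hπloc : ∀ (M : Ideal B) [M.IsMaximal],
      maximalIdeal (Localization.AtPrime M) = Ideal.span {algebraMap B (Localization.AtPrime M) π} ∧
        algebraMap B (Localization.AtPrime M) π ≠ 0 := by
    intro M hM
    have hπM : π ∈ M := by
      rcases hmax M hM with rfl | rfl
      · exact hJ' f₁ π hπJ
      · exact hJ' f₂ π hπJ
    have hns : π ∉ M ^ 2 := by
      rcases hmax M hM with rfl | rfl
      · exact hπ1
      · exact hπ2
    have h2 := not_mem_sq_localization M hπM hns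
    obtain ⟨hdom, hdvr⟩ := isDVR A hN hdim M
    have hne : algebraMap B (Localization.AtPrime M) π ≠ 0 := fun e => h2 (e ▸ zero_mem _)
    refine ⟨?_, hne⟩
    obtain ⟨ϖ, hϖ⟩ := IsDiscreteValuationRing.exists_irreducible (Localization.AtPrime M)
    obtain ⟨n, w, hw⟩ := IsDiscreteValuationRing.eq_unit_mul_pow_irreducible hne hϖ
    have hn : n = 1 := by
      have h1 : algebraMap B (Localization.AtPrime M) π ∈ maximalIdeal (Localization.AtPrime M) :=
        (IsLocalization.AtPrime.to_map_mem_maximal_iff _ M π).2 hπM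
      rcases n with _ | _ | n
      · rw [hw, pow_zero, mul_one] at h1
        exact absurd w.isUnit h1
      · rfl
      · refine absurd ?_ h2
        rw [hw, hϖ.maximalIdeal_eq, Ideal.span_singleton_pow, Ideal.mem_span_singleton]
        exact Dvd.dvd.mul_left (pow_dvd_pow ϖ (by omega)) _
    rw [hw, hn, pow_one, hϖ.maximalIdeal_eq, Ideal.span_singleton_mul_left_unit w.isUnit]
  have hπreg : ∀ z : B, π * z = 0 → z = 0 := by
    intro z hz
    refine eq_zero_of_localization z fun M hM => ?_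
    haveI := (isDVR A hN hdim M).1
    have := congrArg (algebraMap B (Localization.AtPrime M)) hz
    rw [map_mul, map_zero] at this
    exact (mul_eq_zero.1 this).resolve_left (hπloc M).2
  have hJπ : J = Ideal.span {π} := Ideal.eq_of_localization_maximal fun M hM => by
    rw [hmap M, Ideal.map_span, Set.image_singleton, (hπloc M).1]
  -- the node data
  obtain ⟨x, hx, hxπ⟩ := hπJ
  obtain ⟨y, hy, hyπ⟩ : θ * π ∈ J := by rw [hJπ]; exact Ideal.mem_span_singleton'.2 ⟨θ, rfl⟩
  have hdec : ∀ r ∈ maximalIdeal A, ∃ z : B, ι r = z * π := fun r hr => by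
    obtain ⟨z, hz⟩ := Ideal.mem_span_singleton'.1 (hJπ.le ⟨r, hr, rfl⟩)
    exact ⟨z, hz.symm⟩
  refine ⟨x, y, -u₀, -v₀, 1, ⟨?_, ?_, ?_, fun r s hrs => ?_, ?_⟩⟩
  · refine le_antisymm (Ideal.span_le.2 ?_) fun r hr => ?_
    · rintro z (rfl | rfl) <;> assumption
    · obtain ⟨z, hz⟩ := hdec r hr
      obtain ⟨u, v, rfl⟩ := hspan z
      exact Ideal.mem_span_pair.2 ⟨u, v, hinj (by rw [map_add, map_mul, map_mul, hxπ, hyπ, hz]; ring)⟩
  · intro e
    have he : τ (4 * -u₀ * 1 - (-v₀) ^ 2) = 0 := (hτ _).2 ((residue_eq_zero_iff _).1 e)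
    have hr : ∀ f : GeomPt A, f.1 θ * f.1 θ = τ u₀ + τ v₀ * f.1 θ := fun f => by
      rw [← map_mul, hθ2, map_add, map_mul, f.map_base, f.map_base]
    have hsum : f₁.1 θ + f₂.1 θ - τ v₀ = 0 :=
      (mul_eq_zero.1 (show (f₁.1 θ + f₂.1 θ - τ v₀) * (f₁.1 θ - f₂.1 θ) = 0 by
        linear_combination hr f₁ - hr f₂)).resolve_right (sub_ne_zero.2 hθ)
    rw [map_sub, map_mul, map_mul, map_pow, map_neg, map_neg, map_one, map_ofNat] at he
    refine hθ (sub_eq_zero.1 (pow_eq_zero_iff two_ne_zero |>.1 ?_))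
    linear_combination -he + 2 * hr f₁ + 2 * hr f₂ - (f₁.1 θ + f₂.1 θ - τ v₀) * hsum
  · have e : -u₀ * x ^ 2 + -v₀ * x * y + 1 * y ^ 2 = 0 := hinj (by
      simp only [map_add, map_mul, map_pow, map_neg, map_one, map_zero, hxπ, hyπ]
      linear_combination π ^ 2 * hθ2)
    rw [e]
    exact zero_mem _
  · have h2 : ι (r * x + s * y) ∈ Ideal.span {π ^ 2} := by
      rw [← Ideal.span_singleton_pow, ← hJπ]
      have hle : (maximalIdeal A).map ι ≤ J := Ideal.map_le_iff_le_comap.2 fun a ha => ⟨a, ha, rfl⟩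
      refine Ideal.pow_right_mono hle 2 ?_
      rw [← Ideal.map_pow]
      exact Ideal.mem_map_of_mem ι hrs
    obtain ⟨z, hz⟩ := Ideal.mem_span_singleton'.1 h2
    have hd : ι r + ι s * θ - z * π = 0 := hπreg _ (by
      rw [map_add, map_mul, map_mul, hxπ, hyπ] at hz
      linear_combination -hz)
    have hk : ∀ f : GeomPt A, τ r + τ s * f.1 θ = 0 := fun f => by
      have := congrArg f.1 hd
      rw [map_sub, map_add, map_mul, map_mul, map_zero, f.map_base, f.map_base,
        hJ' f π (hJπ.ge (Ideal.mem_span_singleton_self π)), mul_zero, sub_zero] at this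
      exact this
    have hs : τ s = 0 := (mul_eq_zero.1 (show τ s * (f₁.1 θ - f₂.1 θ) = 0 by
      linear_combination hk f₁ - hk f₂)).resolve_right (sub_ne_zero.2 hθ)
    exact ⟨(hτ r).1 (by simpa [hs] using hk f₁), (hτ s).1 hs⟩
  · exact ⟨x, hx, fun z hz => hinj (by
      rw [map_zero]
      refine hπreg _ ?_
      rw [← hxπ, ← map_mul, hz, map_zero])⟩

end Groth.Agent.NodeDelta9
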